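import Cfsg.Agent.Lib.Helper44.FW.Defs

/-!
# Project FW (S3211): package [SWAP]
-/

set_option autoImplicit false

namespace Cfsg.Agent.Lib.Helper48.FW

open Cfsg.Agent.Lib.Helper44.FW

universe u

/-- [SWAP] if some conjugate `≠ j` of `j` commutes with `j`, then every involution `t₀ ≠ j`
of `C(j)` is swapped with `j` by some element. -/
theorem pkgSwap : PkgSwap.{u} := by
  intro G _ j t₀ hj hH ht₀C ht₀2 ht₀1 ht₀j ⟨g, hgne, hgcomm⟩
  have hj2 : j * j = 1 := by
    have := pow_orderOf_eq_one j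
    rw [hj, pow_two] at this
    exact this
  have hj1 : j ≠ 1 := by
    intro h
    rw [h, orderOf_one] at hj
    exact absurd hj (by norm_num)
  have hjinv : j⁻¹ = j := inv_eq_of_mul_eq_one_left hj2
  have memC : ∀ x : G, x ∈ Subgroup.centralizer ({j} : Set G) ↔ j * x = x * j := by
    intro x
    rw [Subgroup.mem_centralizer_iff]
    constructor
    · intro h; exact h j rfl
    · intro h y hy; rw [Set.mem_singleton_iff.mp hy]; exact h
  -- t := g j g⁻¹
  set t := g * j * g⁻¹ with ht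
  have htC : t ∈ Subgroup.centralizer ({j} : Set G) := (memC t).mpr hgcomm.symm
  have ht2 : t ^ 2 = 1 := by
    rw [ht, pow_two]
    calc g * j * g⁻¹ * (g * j * g⁻¹) = g * (j * j) * g⁻¹ := by group
      _ = 1 := by rw [hj2]; group
  have ht1 : t ≠ 1 := by
    intro h
    apply hj1
    have : j = g⁻¹ * t * g := by rw [ht]; group
    rw [this, h]; group
  obtain ⟨c, hcC, hc⟩ := hH t htC ht2 ht1 hgne t₀ ht₀C ht₀2 ht₀1 ht₀j
  -- g₁ := c g
  have hg₁ : (c * g) * j * (c * g)⁻¹ = t₀ := by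
    rw [← hc, ht]; group
  set a := (c * g)⁻¹ * j * (c * g) with ha
  have hj_eq : j = (c * g) * a * (c * g)⁻¹ := by rw [ha]; group
  have haC : a ∈ Subgroup.centralizer ({j} : Set G) := by
    rw [memC]
    have h1 : j * t₀ = t₀ * j := (memC t₀).mp ht₀C
    -- conjugate the relation j t₀ = t₀ j by (c g)⁻¹
    have : (c * g)⁻¹ * (t₀ * j) * (c * g) = (c * g)⁻¹ * (j * t₀) * (c * g) := by rw [h1]
    rw [← hg₁] at this
    have e1 : (c * g)⁻¹ * ((c * g) * j * (c * g)⁻¹ * j) * (c * g) = j * a := by rw [ha]; group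
    have e2 : (c * g)⁻¹ * (j * ((c * g) * j * (c * g)⁻¹)) * (c * g) = a * j := by rw [ha]; group
    rw [e1, e2] at this
    exact this
  have ha2 : a ^ 2 = 1 := by
    rw [ha, pow_two]
    calc (c * g)⁻¹ * j * (c * g) * ((c * g)⁻¹ * j * (c * g)) = (c * g)⁻¹ * (j * j) * (c * g) := by group
      _ = 1 := by rw [hj2]; group
  have ha1 : a ≠ 1 := by
    intro h
    apply hj1
    rw [hj_eq, h]; group
  have haj : a ≠ j := by
    intro h
    apply ht₀j
    rw [← hg₁]
    have : (c * g) * j = j * (c * g) := by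
      have h' : (c * g)⁻¹ * j * (c * g) = j := by rw [← ha]; exact h
      calc (c * g) * j = (c * g) * ((c * g)⁻¹ * j * (c * g)) := by rw [h']
        _ = j * (c * g) := by group
    calc (c * g) * j * (c * g)⁻¹ = j * (c * g) * (c * g)⁻¹ := by rw [this]
      _ = j := by group
  obtain ⟨c', hc'C, hc'⟩ := hH t₀ ht₀C ht₀2 ht₀1 ht₀j a haC ha2 ha1 haj
  have hc'j : j * c' = c' * j := (memC c').mp hc'C
  refine ⟨(c * g) * c', ?_, ?_⟩
  · calc (c * g) * c' * j * ((c * g) * c')⁻¹ = (c * g) * (c' * j) * c'⁻¹ * (c * g)⁻¹ := by group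
      _ = (c * g) * (j * c') * c'⁻¹ * (c * g)⁻¹ := by rw [hc'j]
      _ = (c * g) * j * (c * g)⁻¹ := by group
      _ = t₀ := hg₁
  · calc (c * g) * c' * t₀ * ((c * g) * c')⁻¹ = (c * g) * (c' * t₀ * c'⁻¹) * (c * g)⁻¹ := by group
      _ = (c * g) * a * (c * g)⁻¹ := by rw [hc']
      _ = j := hj_eq.symm

end Cfsg.Agent.Lib.Helper48.FW
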